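import Cfsg.Agent.H377.NR.Core1

/-!
# The frame of S3440, abstract form (helper377)

`frame_of` : the existence of the normal simple section (Vasil'ev's theorem) as a hypothesis.
-/

set_option autoImplicit false
set_option linter.style.haveILetI false

namespace Cfsg.Agent.H377.NR

open Subgroup
open Cfsg.Agent.H414.Comp (IsComp)

theorem isSolvable_sup {G : Type*} [Group G] (K M : Subgroup G) [K.Normal] (hK : Group.IsSolvable ↥K)
    (hM : Group.IsSolvable ↥M) : Group.IsSolvable ↥(K ⊔ M) := by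
  let f : ↥K →* ↥(K ⊔ M) := Subgroup.inclusion le_sup_left
  have h1 : ∀ x : ↥(K ⊔ M), (QuotientGroup.mk' K) (x : G) ∈ M.map (QuotientGroup.mk' K) := by
    intro x
    have h2 : (K ⊔ M).map (QuotientGroup.mk' K) = M.map (QuotientGroup.mk' K) := by
      rw [Subgroup.map_sup, (Subgroup.map_eq_bot_iff _).2 (by rw [QuotientGroup.ker_mk']), bot_sup_eq]
    rw [← h2]
    exact ⟨x, x.2, rfl⟩
  let g : ↥(K ⊔ M) →* ↥(M.map (QuotientGroup.mk' K)) :=
    ((QuotientGroup.mk' K).comp (K ⊔ M).subtype).codRestrict _ h1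
  have hM' : Group.IsSolvable ↥(M.map (QuotientGroup.mk' K)) :=
    Group.isSolvable_of_surjective (f := (QuotientGroup.mk' K).subgroupMap M)
      ((QuotientGroup.mk' K).subgroupMap_surjective M)
  refine Group.isSolvable_of_ker_le_range f g ?_
  intro x hx
  have h3 : (QuotientGroup.mk' K) (x : G) = 1 := congrArg (fun z : ↥(M.map (QuotientGroup.mk' K)) => (z : G ⧸ K)) hx
  rw [QuotientGroup.mk'_apply, QuotientGroup.eq_one_iff] at h3
  exact ⟨⟨x, h3⟩, Subtype.ext rfl⟩

/-- the solvable radical -/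
theorem exists_radical (G : Type*) [Group G] [Finite G] : ∃ K : Subgroup G, K.Normal ∧ Group.IsSolvable ↥K ∧
    ∀ M : Subgroup G, M.Normal → Group.IsSolvable ↥M → M ≤ K := by
  classical
  obtain ⟨K, hK⟩ := Set.Finite.exists_maximal (s := {M : Subgroup G | M.Normal ∧ Group.IsSolvable ↥M})
    (Set.toFinite _) ⟨⊥, inferInstance, inferInstance⟩
  have hKn : K.Normal := hK.1.1
  refine ⟨K, hKn, hK.1.2, fun M hM hMs => ?_⟩
  have h1 : K ⊔ M ∈ {M : Subgroup G | M.Normal ∧ Group.IsSolvable ↥M} :=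
    ⟨Subgroup.sup_normal K M, isSolvable_sup K M hK.1.2 hMs⟩
  exact le_sup_right.trans (hK.2 h1 le_sup_left)

/-- all solvable normal subgroups are nilpotent -/
def NilRad (G : Type*) [Group G] : Prop :=
  ∀ K : Subgroup G, K.Normal → Group.IsSolvable ↥K → Group.IsNilpotent ↥K

/-- the property of the prime divisors of `|K|` used in `core1` -/
def Fine {G : Type*} [Group G] (K : Subgroup G) [K.Normal] (S : Subgroup (G ⧸ K)) : Prop :=
  ∀ v, v.Prime → v ∣ Nat.card ↥K → (∃ s, C3 G v s) ∨ ∃ r, r ≠ 2 ∧ NA G v r ∧ (∃ s, C3 G r s) ∧ r ∣ Nat.card ↥S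

/-- the coclique property of `K` and `S` -/
def CocP {G : Type*} [Group G] (K : Subgroup G) [K.Normal] (S : Subgroup (G ⧸ K)) : Prop :=
  ∀ r s, C3 G r s → r ∣ Nat.card ↥K * S.index → ¬ s ∣ Nat.card ↥K * S.index

theorem NilRad.of_radical {G : Type*} [Group G] {K : Subgroup G} (hK : Group.IsNilpotent ↥K)
    (hmax : ∀ M : Subgroup G, M.Normal → Group.IsSolvable ↥M → M ≤ K) : NilRad G := by
  intro M hM hMs
  haveI := hK
  exact (Group.isNilpotent_congr (MonoidHom.ofInjective (inclusion_injective (hmax M hM hMs)))).2 inferInstance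

end Cfsg.Agent.H377.NR
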