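import Mathlib

/-!
# Prime graph conditions for the nilpotency of the solvable radical (S3440, helper377)

* `Pi G r` : `r` is a prime divisor of `|G|`; `Adj G r s` : `G` has an element of order `r s`;
* `NA G r s` : distinct non-adjacent prime divisors; `C3 G r s` : `s` lies in a coclique `{r, s, t}`;
* `Strong G r` : `r` is an odd prime with `2 ∈ C3 r`, or with three odd primes in `C3 r`, one of them not a Fermat prime or
  not adjacent to `2`, and `r` is not adjacent to `2` or one of them is not congruent to `1` modulo `r`;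
* `Good G` : every prime divisor `v` of `|G|` lies in a coclique of three primes or has a non-neighbour `r` with
  `Strong G r`.

`Good L`, `ω(G) = ω(L)` imply that the solvable radical of `G` is nilpotent (`H377/NR/Core.lean`).
-/

set_option autoImplicit false
set_option linter.style.haveILetI false

namespace Cfsg.Agent.H377.NR

/-- `r` is a prime divisor of `|G|` -/
def Pi (G : Type*) [Group G] (r : ℕ) : Prop := r.Prime ∧ r ∣ Nat.card G

/-- `G` has an element of order `r s` -/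
def Adj (G : Type*) [Group G] (r s : ℕ) : Prop := ∃ x : G, orderOf x = r * s

/-- distinct prime divisors of `|G|`, not adjacent in the prime graph -/
def NA (G : Type*) [Group G] (r s : ℕ) : Prop := Pi G r ∧ Pi G s ∧ r ≠ s ∧ ¬ Adj G r s

/-- `s` lies in a coclique `{r, s, t}` of the prime graph -/
def C3 (G : Type*) [Group G] (r s : ℕ) : Prop := NA G r s ∧ ∃ t, NA G r t ∧ NA G s t

/-- a prime `r` with many non-neighbours -/
def Strong (G : Type*) [Group G] (r : ℕ) : Prop :=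
  r ≠ 2 ∧ (C3 G r 2 ∨ ∃ s₁ s₂ s₃ : ℕ, s₁ ≠ s₂ ∧ s₁ ≠ s₃ ∧ s₂ ≠ s₃ ∧ s₁ ≠ 2 ∧ s₂ ≠ 2 ∧ s₃ ≠ 2 ∧
    C3 G r s₁ ∧ C3 G r s₂ ∧ C3 G r s₃ ∧ ((∀ m : ℕ, s₁ ≠ 2 ^ m + 1) ∨ NA G 2 s₁) ∧
    (NA G 2 r ∨ ¬ (r ∣ s₁ - 1 ∧ r ∣ s₂ - 1 ∧ r ∣ s₃ - 1)))

/-- every prime divisor lies in a coclique of three primes or has a strong non-neighbour -/
def Good (G : Type*) [Group G] : Prop := ∀ v, Pi G v → (∃ s, C3 G v s) ∨ ∃ r, NA G v r ∧ Strong G r

variable {G L : Type*} [Group G] [Group L]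

theorem Pi.prime {r : ℕ} (h : Pi G r) : r.Prime := h.1

theorem Pi.dvd {r : ℕ} (h : Pi G r) : r ∣ Nat.card G := h.2

theorem adj_comm {r s : ℕ} : Adj G r s ↔ Adj G s r := by
  unfold Adj
  rw [mul_comm]

theorem NA.symm {r s : ℕ} (h : NA G r s) : NA G s r :=
  ⟨h.2.1, h.1, h.2.2.1.symm, fun h1 => h.2.2.2 (adj_comm.1 h1)⟩

theorem C3.na {r s : ℕ} (h : C3 G r s) : NA G r s := h.1

theorem C3.symm {r s : ℕ} (h : C3 G r s) : C3 G s r := by
  obtain ⟨h1, t, h2, h3⟩ := h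
  exact ⟨h1.symm, t, h3, h2⟩

theorem C3.third {r s t : ℕ} (h1 : NA G r s) (h2 : NA G r t) (h3 : NA G s t) : C3 G r s := ⟨h1, t, h2, h3⟩

/-! ### Transfer -/

theorem pi_iff [Finite G] {r : ℕ} : Pi G r ↔ r.Prime ∧ r ∈ Set.range (orderOf : G → ℕ) := by
  constructor
  · rintro ⟨h1, h2⟩
    haveI := Fact.mk h1
    obtain ⟨x, hx⟩ := exists_prime_orderOf_dvd_card' r h2
    exact ⟨h1, x, hx⟩
  · rintro ⟨h1, x, hx⟩
    exact ⟨h1, hx ▸ orderOf_dvd_natCard x⟩

variable (h : Set.range (orderOf : G → ℕ) = Set.range (orderOf : L → ℕ))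

include h

theorem Pi.congr [Finite G] [Finite L] {r : ℕ} : Pi G r ↔ Pi L r := by
  rw [pi_iff, pi_iff, h]

theorem Adj.congr {r s : ℕ} : Adj G r s ↔ Adj L r s := by
  change r * s ∈ Set.range (orderOf : G → ℕ) ↔ r * s ∈ Set.range (orderOf : L → ℕ)
  rw [h]

theorem NA.congr [Finite G] [Finite L] {r s : ℕ} : NA G r s ↔ NA L r s := by
  unfold NA
  rw [Pi.congr h, Pi.congr h, Adj.congr h]

theorem C3.congr [Finite G] [Finite L] {r s : ℕ} : C3 G r s ↔ C3 L r s := by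
  unfold C3
  simp only [NA.congr h]

theorem Strong.congr [Finite G] [Finite L] {r : ℕ} : Strong G r ↔ Strong L r := by
  unfold Strong
  simp only [NA.congr h, C3.congr h]

theorem Good.congr [Finite G] [Finite L] : Good G ↔ Good L := by
  unfold Good
  simp only [Pi.congr h, NA.congr h, C3.congr h, Strong.congr h]

omit h

theorem range_of_equiv (e : G ≃* L) : Set.range (orderOf : G → ℕ) = Set.range (orderOf : L → ℕ) := by
  ext n
  constructor
  · rintro ⟨x, hx⟩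
    exact ⟨e x, by rw [e.orderOf_eq, hx]⟩
  · rintro ⟨x, hx⟩
    exact ⟨e.symm x, by rw [e.symm.orderOf_eq, hx]⟩

theorem Good.of_equiv [Finite G] [Finite L] (e : G ≃* L) (hL : Good L) : Good G :=
  (Good.congr (range_of_equiv e)).2 hL

/-! ### Making `Strong` and `Good` -/

/-- from a coclique `{2, r, t}` -/
theorem strong_of_two {r t : ℕ} (h1 : NA G 2 r) (h2 : NA G 2 t) (h3 : NA G r t) : Strong G r :=
  ⟨h1.2.2.1.symm, Or.inl ⟨h1.symm, t, h3, h2⟩⟩

/-- from a coclique `{r, a, p}` and a coclique `{r, a, b}`, `r ∤ p - 1`, `a` or `b` not a Fermat prime -/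
theorem strong_of_three {r a b p : ℕ} (hr : r ≠ 2) (ha : a ≠ 2) (hb : b ≠ 2) (hp : p ≠ 2) (hbp : b ≠ p)
    (h1 : NA G r a) (h2 : NA G r b) (h3 : NA G r p) (h4 : NA G a b) (h5 : NA G a p)
    (hf : (∀ m : ℕ, a ≠ 2 ^ m + 1) ∨ ∀ m : ℕ, b ≠ 2 ^ m + 1) (hrp : ¬ r ∣ p - 1) : Strong G r := by
  have ca : C3 G r a := ⟨h1, b, h2, h4⟩
  have cb : C3 G r b := ⟨h2, a, h1, h4.symm⟩
  have cp : C3 G r p := ⟨h3, a, h1, h5.symm⟩
  refine ⟨hr, Or.inr ?_⟩
  rcases hf with hf | hf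
  · exact ⟨a, b, p, h4.2.2.1, h5.2.2.1, hbp, ha, hb, hp, ca, cb, cp, Or.inl hf, Or.inr fun h => hrp h.2.2⟩
  · exact ⟨b, a, p, h4.2.2.1.symm, hbp, h5.2.2.1, hb, ha, hp, cb, ca, cp, Or.inl hf, Or.inr fun h => hrp h.2.2⟩

/-- from a coclique `{r, a, b, c}` of odd primes with `r` not adjacent to `2` and `a` not a Fermat prime -/
theorem strong_of_four {r a b c : ℕ} (ha : a ≠ 2) (hb : b ≠ 2) (hc : c ≠ 2)
    (h0 : NA G 2 r) (h1 : NA G r a) (h2 : NA G r b) (h3 : NA G r c) (h4 : NA G a b) (h5 : NA G a c) (h6 : b ≠ c)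
    (hf : ∀ m : ℕ, a ≠ 2 ^ m + 1) : Strong G r :=
  ⟨h0.2.2.1.symm, Or.inr ⟨a, b, c, h4.2.2.1, h5.2.2.1, h6, ha, hb, hc, ⟨h1, b, h2, h4⟩, ⟨h2, a, h1, h4.symm⟩,
    ⟨h3, a, h1, h5.symm⟩, Or.inl hf, Or.inl h0⟩⟩

/-- the criterion for a family with two strong primes such that every prime is not adjacent to one of them -/
theorem good_of_pair {a b : ℕ} (ha : Strong G a) (hb : Strong G b)
    (h : ∀ v, Pi G v → NA G v a ∨ NA G v b) : Good G := fun v hv =>
  Or.inr ((h v hv).elim (fun h1 => ⟨a, h1, ha⟩) fun h1 => ⟨b, h1, hb⟩)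

/-- A prime `s` such that the order of `q` modulo `s` is not a power of `2` is not a Fermat prime. -/
theorem not_fermat {s k : ℕ} {q : ZMod s} (hs : s.Prime) (hk : orderOf q = k) (hk0 : k ≠ 0)
    (h2 : ∀ j : ℕ, k ≠ 2 ^ j) (m : ℕ) : s ≠ 2 ^ m + 1 := by
  intro hsm
  haveI := Fact.mk hs
  have h0 : q ≠ 0 := by
    rintro rfl
    rw [orderOf_eq_zero_iff'.2] at hk
    · exact hk0 hk.symm
    · intro n hn h1
      rw [zero_pow hn.ne'] at h1
      exact zero_ne_one h1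
  have h1 : q ^ (s - 1) = 1 := ZMod.pow_card_sub_one_eq_one h0
  have h3 : k ∣ 2 ^ m := by
    have h4 : 2 ^ m = s - 1 := by rw [hsm, Nat.add_sub_cancel]
    rw [← hk, h4]
    exact orderOf_dvd_of_pow_eq_one h1
  obtain ⟨j, -, hj⟩ := (Nat.dvd_prime_pow Nat.prime_two).1 h3
  exact h2 j hj

end Cfsg.Agent.H377.NR
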