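import Cfsg.Agent.H377.NR.CoreAux

/-!
# The core argument of S3440 (helper377)

`core1` : `K` a solvable normal subgroup of `G`, `S` a normal nonabelian simple subgroup of `G ⧸ K` with trivial centralizer;
if every prime divisor `v` of `|K|` lies in a coclique of three primes, or is not adjacent to an odd prime `r` dividing `|S|`
and lying in a coclique of three primes, then `K` is nilpotent.
-/

set_option autoImplicit false
set_option linter.style.haveILetI false

namespace Cfsg.Agent.H377.NR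

open Subgroup
open scoped commutatorElement
open Cfsg.Agent.H414.Comp (IsComp)

universe u

/-! ### The configuration -/

/-- `F` a maximal nilpotent normal subgroup of `G` inside `K`, `X / F` a chief factor inside `K`, a `w`-group, `P` a normal
`v`-subgroup, `P ≤ F`, with `C_X(P) ≤ F`. -/
structure Cfg {G : Type u} [Group G] (K F X P : Subgroup G) (v w : ℕ) : Prop where
  hv : v.Prime
  hw : w.Prime
  vw : v ≠ w
  Fn : F.Normal
  Xn : X.Normal
  Pn : P.Normal
  FX : F ≤ X
  XK : X ≤ K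
  PF : P ≤ F
  ne : ¬ X ≤ F
  nil : Group.IsNilpotent ↥F
  P0 : P ≠ ⊥
  Pv : IsPGroup v ↥P
  comm : ∀ a ∈ X, ∀ b ∈ X, ⁅a, b⁆ ∈ F
  pow : ∀ a ∈ X, a ^ w ∈ F
  cent : ∀ a ∈ X, (∀ u ∈ P, a * u = u * a) → a ∈ F

theorem isNilpotent_of_comm {X : Type*} [Group X] [Finite X]
    (h : ∀ p q : ℕ, p.Prime → q.Prime → p ≠ q → ∀ a b : X, (∃ k, a ^ p ^ k = 1) → (∃ k, b ^ q ^ k = 1) → a * b = b * a) :
    Group.IsNilpotent X := by
  refine (Group.isNilpotent_of_finite_tfae (G := X)).out 0 3 |>.2 ?_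
  intro p hp P
  have hp' := hp.out
  have h1 : normalizer ((P : Subgroup X) : Set X) = ⊤ := by
    rw [← Subgroup.index_eq_one]
    by_contra hne
    obtain ⟨q, hq, hqd⟩ := Nat.exists_prime_and_dvd hne
    have hq' := Fact.mk hq
    by_cases hpq : p = q
    · subst hpq
      have h2 := Subgroup.index_dvd_of_le (le_normalizer (H := (P : Subgroup X)))
      exact P.not_dvd_index (hqd.trans h2)
    · obtain ⟨Q⟩ : Nonempty (Sylow q X) := inferInstance
      have h2 : (Q : Subgroup X) ≤ normalizer ((P : Subgroup X) : Set X) := by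
        apply le_normalizer_of_conj
        intro g hg x hx
        have h3 : x * g = g * x := by
          refine h p q hp' hq hpq x g ?_ ?_
          · obtain ⟨k, hk⟩ := P.isPGroup' ⟨x, hx⟩
            exact ⟨k, congrArg Subtype.val hk⟩
          · obtain ⟨k, hk⟩ := Q.isPGroup' ⟨g, hg⟩
            exact ⟨k, congrArg Subtype.val hk⟩
        rw [← h3, mul_inv_cancel_right]
        exact hx
      exact Q.not_dvd_index (hqd.trans (Subgroup.index_dvd_of_le h2))
  exact normalizer_eq_top_iff.1 h1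

/-- an element of a nilpotent group acts on a normal `v`-subgroup as a `v`-element -/
theorem pow_comm_of_nilpotent {G : Type*} [Group G] [Finite G] {F P : Subgroup G} (hF : Group.IsNilpotent ↥F) (hPF : P ≤ F)
    {v : ℕ} (hv : v.Prime) (hP : IsPGroup v ↥P) {f : G} (hf : f ∈ F) :
    ∃ m : ℕ, ∀ u ∈ P, f ^ v ^ m * u = u * f ^ v ^ m := by
  obtain ⟨m, l, hl, hml⟩ := Nat.exists_eq_pow_mul_and_not_dvd (orderOf_pos f).ne' v hv.ne_one
  refine ⟨m, fun u hu => ?_⟩
  obtain ⟨k, hk⟩ := hP ⟨u, hu⟩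
  have hk' : (⟨u, hPF hu⟩ : ↥F) ^ v ^ k = 1 := by
    apply Subtype.ext
    change u ^ v ^ k = 1
    exact congrArg (Subtype.val : ↥P → G) hk
  have hl' : ((⟨f, hf⟩ : ↥F) ^ v ^ m) ^ l = 1 := by
    apply Subtype.ext
    change (f ^ v ^ m) ^ l = 1
    rw [← pow_mul, ← hml, pow_orderOf_eq_one]
  have h1 := Cfsg.Agent.Lib.NilpotentCoprime.commute_of_pow_eq_one
    ((Nat.Coprime.pow_left k ((Nat.Prime.coprime_iff_not_dvd hv).2 hl)).symm) hl' hk'
  exact congrArg Subtype.val h1

theorem exists_cfg {G : Type u} [Group G] [Finite G] (K : Subgroup G) [hKn : K.Normal] (hK : Group.IsSolvable ↥K)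
    (hnil : ¬ Group.IsNilpotent ↥K) : ∃ (F X P : Subgroup G) (v w : ℕ), Cfg K F X P v w := by
  classical
  -- the maximal nilpotent normal subgroup
  have hne : {F : Subgroup G | F.Normal ∧ F ≤ K ∧ Group.IsNilpotent ↥F}.Nonempty :=
    ⟨⊥, inferInstance, bot_le, inferInstance⟩
  obtain ⟨F, ⟨hFn, hFK, hFnil⟩, hFmax⟩ := (Set.toFinite _).exists_maximal hne
  -- the chief factor
  set π := QuotientGroup.mk' F with hπ
  have hK' : K.map π ≠ ⊥ := by
    intro h
    rw [Subgroup.map_eq_bot_iff, hπ, QuotientGroup.ker_mk'] at h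
    exact hnil (le_antisymm h hFK ▸ hFnil)
  have hKmn : (K.map π).Normal := hKn.map _ (QuotientGroup.mk'_surjective F)
  obtain ⟨W, ⟨hWn, hW0, hWK⟩, hWmin⟩ := (Set.toFinite {T : Subgroup (G ⧸ F) | T.Normal ∧ T ≠ ⊥ ∧ T ≤ K.map π}).exists_minimal
    ⟨K.map π, hKmn, hK', le_rfl⟩
  have hmin : ∀ L : Subgroup (G ⧸ F), L.Normal → L ≤ W → L = ⊥ ∨ L = W := by
    intro L hL hLW
    by_cases h0 : L = ⊥
    · exact Or.inl h0
    · exact Or.inr (le_antisymm hLW (hWmin ⟨hL, h0, hLW.trans hWK⟩ hLW))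
  have hWsol : Group.IsSolvable ↥W := by
    have h1 : Group.IsSolvable ↥(K.map π) :=
      Group.isSolvable_of_surjective (f := π.subgroupMap K) (π.subgroupMap_surjective K)
    exact Group.isSolvable_of_isSolvable_injective (f := inclusion hWK) (inclusion_injective _)
  have hWab : ∀ a ∈ W, ∀ b ∈ W, a * b = b * a := by
    have h1 : ⁅W, W⁆ = ⊥ := by
      rcases hmin ⁅W, W⁆ inferInstance (commutator_le_right W W) with h | h
      · exact h
      · exfalso
        have hnt : Nontrivial W := (Subgroup.nontrivial_iff_ne_bot W).2 hW0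
        have h3 := Group.IsSolvable.commutator_lt_of_ne_bot (G := ↥W) (top_ne_bot : (⊤ : Subgroup ↥W) ≠ ⊥)
        have h4 : (⁅(⊤ : Subgroup W), (⊤ : Subgroup W)⁆ : Subgroup W).map W.subtype = W := by
          rw [Subgroup.map_commutator, ← MonoidHom.range_eq_map, Subgroup.range_subtype, h]
        have h5 : (⊤ : Subgroup W).map W.subtype = W := by
          rw [← MonoidHom.range_eq_map, Subgroup.range_subtype]
        exact h3.ne (Subgroup.map_injective W.subtype_injective (h4.trans h5.symm))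
    intro x hx y hy
    have h2 := Subgroup.commutator_mem_commutator hx hy
    rw [h1, mem_bot, commutatorElement_eq_one_iff_mul_comm] at h2
    exact h2
  obtain ⟨w, hw, hWw⟩ := Cfsg.Agent.SolvableStructure.MinimalNormal.exists_prime_pow_eq_one W hW0 hmin hWab
  set X := W.comap π with hX
  have hXn : X.Normal := hWn.comap _
  have hFX : F ≤ X := by
    intro f hf
    change π f ∈ W
    have h1 : π f = 1 := (QuotientGroup.eq_one_iff f).2 hf
    rw [h1]
    exact one_mem _
  have hXK : X ≤ K := by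
    have h1 : (K.map π).comap π = K := by
      rw [Subgroup.comap_map_eq, hπ, QuotientGroup.ker_mk', sup_eq_left]
      exact hFK
    rw [← h1]
    exact Subgroup.comap_mono hWK
  have hπ1 : ∀ g : G, π g = 1 ↔ g ∈ F := fun g => QuotientGroup.eq_one_iff g
  have hne : ¬ X ≤ F := by
    intro h
    apply hW0
    rw [eq_bot_iff]
    intro z hz
    obtain ⟨g, rfl⟩ := QuotientGroup.mk'_surjective F z
    exact (hπ1 g).2 (h hz)
  have hXnil : ¬ Group.IsNilpotent ↥X := fun h => hne (hFmax ⟨hXn, hXK, h⟩ hFX)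
  have hpow : ∀ a ∈ X, a ^ w ∈ F := fun a ha => by
    rw [← hπ1, map_pow]
    exact hWw _ ha
  -- elements of order prime to `w` lie in `F`
  have hXF : ∀ (q : ℕ), q.Prime → q ≠ w → ∀ a ∈ X, (∃ k, a ^ q ^ k = 1) → a ∈ F := by
    rintro q hq hqw a ha ⟨k, hk⟩
    rw [← hπ1]
    have h1 : (π a) ^ w = 1 := hWw _ ha
    have h2 : (π a) ^ (q ^ k) = 1 := by rw [← map_pow, hk, map_one]
    have h3 := Nat.dvd_gcd (orderOf_dvd_of_pow_eq_one h1) (orderOf_dvd_of_pow_eq_one h2)
    rw [(Nat.Coprime.pow_right k ((Nat.coprime_primes hw hq).2 (Ne.symm hqw)) : Nat.gcd w (q ^ k) = 1)] at h3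
    exact orderOf_eq_one_iff.1 (Nat.dvd_one.1 h3)
  -- the prime `v`
  obtain ⟨v, hv, hvw, t, htX, ⟨k, htk⟩, u, huF, ⟨l, hul⟩, htu⟩ : ∃ v : ℕ, v.Prime ∧ v ≠ w ∧ ∃ t ∈ X, (∃ k, t ^ w ^ k = 1) ∧
      ∃ u ∈ F, (∃ k, u ^ v ^ k = 1) ∧ t * u ≠ u * t := by
    by_contra hcon
    push Not at hcon
    apply hXnil
    apply isNilpotent_of_comm
    rintro p q hp hq hpq ⟨a, ha⟩ ⟨b, hb⟩ ⟨k, hk⟩ ⟨l, hl⟩
    have hk' : a ^ p ^ k = 1 := congrArg Subtype.val hk
    have hl' : b ^ q ^ l = 1 := congrArg Subtype.val hl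
    apply Subtype.ext
    change a * b = b * a
    by_cases hpw : p = w
    · subst hpw
      have hbF := hXF q hq (Ne.symm hpq) b hb ⟨l, hl'⟩
      exact hcon q hq (Ne.symm hpq) a ha ⟨k, hk'⟩ b hbF ⟨l, hl'⟩
    · have haF := hXF p hp hpw a ha ⟨k, hk'⟩
      by_cases hqw : q = w
      · subst hqw
        exact (hcon p hp hpw b hb ⟨l, hl'⟩ a haF ⟨k, hk'⟩).symm
      · have hbF := hXF q hq hqw b hb ⟨l, hl'⟩
        have h1 := Cfsg.Agent.Lib.NilpotentCoprime.commute_of_pow_eq_one (N := ↥F) (a := ⟨a, haF⟩) (b := ⟨b, hbF⟩)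
          (m := p ^ k) (n := q ^ l) (Nat.Coprime.pow _ _ ((Nat.coprime_primes hp hq).2 hpq))
          (Subtype.ext hk') (Subtype.ext hl')
        exact congrArg Subtype.val h1
  have hv' := Fact.mk hv
  have hw' := Fact.mk hw
  -- the Sylow subgroup
  obtain ⟨P₀⟩ : Nonempty (Sylow v ↥F) := inferInstance
  have hP₀n : (P₀ : Subgroup ↥F).Normal := inferInstance
  have hP₀c : (P₀ : Subgroup ↥F).Characteristic := Sylow.characteristic_of_normal P₀ hP₀n
  set P : Subgroup G := (P₀ : Subgroup ↥F).map F.subtype with hP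
  have hPn : P.Normal := by rw [hP]; infer_instance
  have hPF : P ≤ F := by rw [hP]; exact Subgroup.map_subtype_le _
  have hPv : IsPGroup v ↥P := P₀.isPGroup'.map _
  have huP : u ∈ P := by
    have h1 : IsPGroup v ↥(zpowers (⟨u, huF⟩ : ↥F)) := by
      intro x
      obtain ⟨n, hn⟩ := mem_zpowers_iff.1 x.2
      refine ⟨l, Subtype.ext ?_⟩
      change (x : ↥F) ^ v ^ l = 1
      rw [← hn]
      have h2 : (⟨u, huF⟩ : ↥F) ^ v ^ l = 1 := Subtype.ext hul
      rw [← zpow_natCast, ← zpow_mul, mul_comm, zpow_mul, zpow_natCast, h2, one_zpow]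
    obtain ⟨P₁, hP₁⟩ := h1.exists_le_sylow
    have h3 : P₁ = P₀ := by
      haveI := Sylow.unique_of_normal P₀ hP₀n
      exact Subsingleton.elim _ _
    rw [h3] at hP₁
    exact ⟨⟨u, huF⟩, hP₁ (mem_zpowers _), rfl⟩
  have hP0 : P ≠ ⊥ := by
    intro h
    rw [h, mem_bot] at huP
    rw [huP, one_mul, mul_one] at htu
    exact htu rfl
  refine ⟨F, X, P, v, w, ⟨hv, hw, hvw, hFn, hXn, hPn, hFX, hXK, hPF, hne, hFnil, hP0, hPv, ?_, hpow, ?_⟩⟩
  · intro a ha b hb
    rw [← hπ1, map_commutatorElement, commutatorElement_eq_one_iff_mul_comm]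
    exact hWab _ ha _ hb
  · -- the centralizer
    intro a ha hau
    set D : Subgroup G := X ⊓ centralizer (P : Set G) with hD
    have hDn : D.Normal := by rw [hD]; infer_instance
    have hDm : (D.map π).Normal := hDn.map _ (QuotientGroup.mk'_surjective F)
    have hDW : D.map π ≤ W := by
      rintro _ ⟨d, hd, rfl⟩
      exact hd.1
    have haD : a ∈ D := ⟨ha, mem_centralizer_iff.2 fun u hu => (hau u hu).symm⟩
    rcases hmin _ hDm hDW with h | h
    · rw [← hπ1]
      have h1 : π a ∈ D.map π := ⟨a, haD, rfl⟩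
      rwa [h, mem_bot] at h1
    · exfalso
      have h1 : π t ∈ D.map π := by rw [h]; exact htX
      obtain ⟨c, hc, hct⟩ := h1
      set f := c⁻¹ * t with hf
      have hfF : f ∈ F := by
        rw [← hπ1, hf, map_mul, map_inv, hct, inv_mul_cancel]
      let ψ : G →* MulAut P := MulAut.conjNormal
      have hψc : ψ c = 1 := by
        ext x
        change c * (x : G) * c⁻¹ = x
        rw [← mem_centralizer_iff.1 hc.2 x x.2, mul_inv_cancel_right]
      have hψt : ψ t = ψ f := by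
        rw [hf, map_mul, map_inv, hψc, inv_one, one_mul]
      obtain ⟨m, hm⟩ := pow_comm_of_nilpotent hFnil hPF hv hPv hfF
      have h2 : (ψ t) ^ (v ^ m) = 1 := by
        rw [hψt, ← map_pow]
        ext x
        change f ^ v ^ m * (x : G) * (f ^ v ^ m)⁻¹ = x
        rw [hm x x.2, mul_inv_cancel_right]
      have h3 : (ψ t) ^ (w ^ k) = 1 := by rw [← map_pow, htk, map_one]
      have h4 := Nat.dvd_gcd (orderOf_dvd_of_pow_eq_one h2) (orderOf_dvd_of_pow_eq_one h3)
      rw [(Nat.Coprime.pow m k ((Nat.coprime_primes hv hw).2 hvw) : Nat.gcd (v ^ m) (w ^ k) = 1)] at h4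
      have h5 : ψ t = 1 := orderOf_eq_one_iff.1 (Nat.dvd_one.1 h4)
      have h6 : ((ψ t ⟨u, huP⟩ : ↥P) : G) = u := by rw [h5]; rfl
      apply htu
      change t * u * t⁻¹ = u at h6
      rwa [mul_inv_eq_iff_eq_mul] at h6

/-! ### Consequences -/

section

variable {G : Type u} [Group G] [Finite G] {K F X P : Subgroup G} {v w : ℕ}

/-- a Sylow `w`-subgroup of `X` covers `X / F` -/
theorem Cfg.cover (c : Cfg K F X P v w) [Fact w.Prime] (T : Sylow w ↥X) {x : G} (hx : x ∈ X) :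
    ∃ t ∈ (T : Subgroup ↥X).map X.subtype, ∃ f ∈ F, x = t * f := by
  have hFn := c.Fn
  have hXn := c.Xn
  set F' : Subgroup ↥X := F.subgroupOf X with hF'
  have hF'n : F'.Normal := by rw [hF']; infer_instance
  -- the quotient is a `w`-group
  have h1 : IsPGroup w (↥X ⧸ F') := by
    intro z
    obtain ⟨y, rfl⟩ := QuotientGroup.mk'_surjective F' z
    refine ⟨1, ?_⟩
    rw [pow_one, ← map_pow]
    exact (QuotientGroup.eq_one_iff _).2 (mem_subgroupOf.2 (c.pow y y.2))
  obtain ⟨k, hk⟩ := (IsPGroup.iff_card (p := w)).1 h1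
  have h2 : ((T : Subgroup ↥X) ⊔ F').index = 1 := by
    have h3 : ((T : Subgroup ↥X) ⊔ F').index ∣ w ^ k := by
      rw [← hk]
      exact Subgroup.index_dvd_of_le le_sup_right
    obtain ⟨j, -, hj⟩ := (Nat.dvd_prime_pow c.hw).1 h3
    rcases Nat.eq_zero_or_pos j with h0 | h0
    · rw [hj, h0, pow_zero]
    · exfalso
      apply T.not_dvd_index
      refine dvd_trans ?_ (Subgroup.index_dvd_of_le (le_sup_left : (T : Subgroup ↥X) ≤ (T : Subgroup ↥X) ⊔ F'))
      rw [hj]
      exact dvd_pow_self w h0.ne'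
  rw [Subgroup.index_eq_one] at h2
  have h3 : (⟨x, hx⟩ : ↥X) ∈ (T : Subgroup ↥X) ⊔ F' := by rw [h2]; exact mem_top _
  obtain ⟨t, ht, f, hf, htf⟩ := Subgroup.mem_sup_of_normal_right.1 h3
  exact ⟨t, ⟨t, ht, rfl⟩, f, hf, (congrArg Subtype.val htf).symm⟩

/-- the centralizer of the chief factor `X / F` -/
def cn (F X : Subgroup G) [F.Normal] : Subgroup G :=
  (centralizer ((X.map (QuotientGroup.mk' F) : Subgroup (G ⧸ F)) : Set (G ⧸ F))).comap (QuotientGroup.mk' F)

theorem mem_cn [F.Normal] {g : G} : g ∈ cn F X ↔ ∀ x ∈ X, ⁅x, g⁆ ∈ F := by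
  unfold cn
  rw [mem_comap, mem_centralizer_iff]
  constructor
  · intro h x hx
    have h1 := h _ ⟨x, hx, rfl⟩
    rw [← QuotientGroup.eq_one_iff]
    change QuotientGroup.mk' F ⁅x, g⁆ = 1
    rw [map_commutatorElement, commutatorElement_eq_one_iff_mul_comm]
    exact h1
  · rintro h _ ⟨x, hx, rfl⟩
    have h1 := (QuotientGroup.eq_one_iff _).2 (h x hx)
    change QuotientGroup.mk' F ⁅x, g⁆ = 1 at h1
    rw [map_commutatorElement, commutatorElement_eq_one_iff_mul_comm] at h1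
    exact h1

theorem cn_normal [F.Normal] [hX : X.Normal] : (cn F X).Normal := by
  unfold cn
  have h1 : (X.map (QuotientGroup.mk' F)).Normal := hX.map _ (QuotientGroup.mk'_surjective F)
  infer_instance

theorem le_cn [hF : F.Normal] : F ≤ cn F X := by
  intro f hf
  rw [mem_cn]
  intro x _
  rw [commutatorElement_def]
  exact mul_mem (hF.conj_mem f hf x) (inv_mem hf)

theorem Cfg.v_dvd (c : Cfg K F X P v w) : v ∣ Nat.card ↥P := by
  have := Fact.mk c.hv
  obtain ⟨k, hk⟩ := (IsPGroup.iff_card (p := v)).1 c.Pv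
  have h1 : Nat.card ↥P ≠ 1 := fun h => c.P0 (Subgroup.card_eq_one.1 h)
  rw [hk] at h1 ⊢
  apply dvd_pow_self
  rintro rfl
  exact h1 (pow_zero _)

theorem Cfg.w_dvd (c : Cfg K F X P v w) : w ∣ Nat.card ↥X := by
  have := Fact.mk c.hw
  obtain ⟨T⟩ : Nonempty (Sylow w ↥X) := inferInstance
  by_contra hcon
  apply c.ne
  intro x hx
  obtain ⟨t, ⟨t', ht, rfl⟩, f, hf, rfl⟩ := c.cover T hx
  have h1 : (T : Subgroup ↥X) = ⊥ := by
    rw [← Subgroup.card_eq_one]
    obtain ⟨k, hk⟩ := (IsPGroup.iff_card (p := w)).1 T.isPGroup'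
    rw [hk]
    rcases Nat.eq_zero_or_pos k with h0 | h0
    · rw [h0, pow_zero]
    · exact absurd ((dvd_pow_self w h0.ne').trans (hk ▸ Subgroup.card_subgroup_dvd_card _)) hcon
  change t' ∈ (T : Subgroup ↥X) at ht
  rw [h1, mem_bot] at ht
  rw [ht]
  simpa using hf

/-- the Hall–Higman type step: an element of prime order `r ∤ |K|`, not adjacent to `v`, centralises `X / F` -/
theorem Cfg.hh (c : Cfg K F X P v w) [F.Normal] {r : ℕ} (hr : r.Prime) (hrK : ¬ r ∣ Nat.card ↥K) (hrv : ¬ Adj G v r)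
    {g : G} (hg : orderOf g = r) : g ∈ cn F X := by
  have := Fact.mk c.hv
  have := Fact.mk c.hw
  have := Fact.mk hr
  have hXn := c.Xn
  have hPn := c.Pn
  have hrX : ¬ r ∣ Nat.card ↥X := fun h => hrK (h.trans (Subgroup.card_dvd_of_le c.XK))
  have hwr : w ≠ r := by
    rintro rfl
    exact hrX c.w_dvd
  have hvr : v ≠ r := by
    rintro rfl
    exact hrX (c.v_dvd.trans (Subgroup.card_dvd_of_le (c.PF.trans c.FX)))
  -- an invariant Sylow subgroup
  have hgr : IsPGroup r ↥(zpowers g) := IsPGroup.of_card (n := 1) (by rw [Nat.card_zpowers, hg, pow_one])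
  obtain ⟨T', ⟨T, hT⟩, hTg⟩ := Cfsg.Agent.Lib.PGroupCoprimeAction.exists_invariant_sylow hgr hrX
    (fun b _ u hu => hXn.conj_mem u hu b) w
  have hTp : IsPGroup w ↥T' := by
    rw [← hT]
    exact T.isPGroup'.map _
  have hTX : T' ≤ X := by
    rw [← hT]
    exact Subgroup.map_subtype_le _
  let ψ : G →* MulAut P := MulAut.conjNormal
  have hψ : ∀ (a : G) (u : ↥P), ((ψ a u : ↥P) : G) = a * u * a⁻¹ := fun a u => rfl
  have hψ1 : ∀ a : G, ψ a = 1 ↔ ∀ u ∈ P, a * u = u * a := by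
    intro a
    constructor
    · intro h u hu
      have h1 := hψ a ⟨u, hu⟩
      rw [h] at h1
      change u = a * u * a⁻¹ at h1
      rw [eq_mul_inv_iff_mul_eq] at h1
      exact h1.symm
    · intro h
      ext u
      rw [hψ, h u u.2, mul_inv_cancel_right]
      rfl
  -- the fixed points of `g`
  have hfix : ∀ u : ↥P, ψ g u = u → u = 1 := by
    intro u hu
    by_contra hu1
    apply hrv
    have h1 : g * (u : G) * g⁻¹ = u := by rw [← hψ, hu]
    rw [mul_inv_eq_iff_eq_mul] at h1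
    exact adj_of_comm' c.hv hr hvr (dvd_orderOf c.Pv u.2 fun h => hu1 (Subtype.ext h)) (by rw [hg])
      (show Commute (u : G) g from h1.symm)
  have hgo : orderOf (ψ g) = r := by
    have h1 : orderOf (ψ g) ∣ r := by
      rw [← hg]
      exact orderOf_map_dvd ψ g
    rcases (Nat.dvd_prime hr).1 h1 with h | h
    · exfalso
      apply c.P0
      rw [eq_bot_iff]
      intro u hu
      have h2 := hfix ⟨u, hu⟩ (by rw [orderOf_eq_one_iff.1 h]; rfl)
      exact mem_bot.2 (congrArg Subtype.val h2)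
    · exact h
  have hkey := abel_act c.hv c.hw hr c.vw hvr hwr c.Pv (T'.map ψ) (hTp.map _) ?_ (ψ g) hgo ?_ hfix
  · rw [mem_cn]
    intro x hx
    obtain ⟨t, ht, f, hf, rfl⟩ := c.cover T hx
    rw [hT] at ht
    have h1 : ⁅t, g⁆ ∈ F := by
      apply c.cent
      · rw [commutatorElement_def, mul_assoc, mul_assoc]
        refine mul_mem (hTX ht) ?_
        rw [← mul_assoc]
        exact hXn.conj_mem _ (inv_mem (hTX ht)) g
      · rw [← hψ1, map_commutatorElement, commutatorElement_eq_one_iff_mul_comm]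
        exact (hkey (ψ t) ⟨t, ht, rfl⟩).symm
    have h2 : ⁅f, g⁆ ∈ F := by
      rw [commutatorElement_def, mul_assoc, mul_assoc]
      refine mul_mem hf ?_
      rw [← mul_assoc]
      exact c.Fn.conj_mem _ (inv_mem hf) g
    have h3 : ⁅t * f, g⁆ = t * ⁅f, g⁆ * t⁻¹ * ⁅t, g⁆ := by
      simp only [commutatorElement_def]
      group
    rw [h3]
    exact mul_mem (c.Fn.conj_mem _ h2 t) h1
  · rintro _ ⟨a, ha, rfl⟩ _ ⟨b, hb, rfl⟩
    rw [← commutatorElement_eq_one_iff_mul_comm, ← map_commutatorElement, hψ1]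
    -- `⁅a, b⁆ ∈ T' ⊓ F` centralises `P`
    intro u hu
    have h1 : ⁅a, b⁆ ∈ T' := by
      rw [commutatorElement_def]
      exact mul_mem (mul_mem (mul_mem ha hb) (inv_mem ha)) (inv_mem hb)
    have h2 : ⁅a, b⁆ ∈ F := c.comm a (hTX ha) b (hTX hb)
    obtain ⟨k, hk⟩ := hTp ⟨_, h1⟩
    obtain ⟨l, hl⟩ := c.Pv ⟨u, hu⟩
    have hnil := c.nil
    have h3 := Cfsg.Agent.Lib.NilpotentCoprime.commute_of_pow_eq_one (N := ↥F) (a := ⟨_, h2⟩) (b := ⟨u, c.PF hu⟩)
      (m := w ^ k) (n := v ^ l) (Nat.Coprime.pow _ _ ((Nat.coprime_primes c.hw c.hv).2 c.vw.symm))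
      (Subtype.ext (congrArg (Subtype.val : ↥T' → G) hk)) (Subtype.ext (congrArg (Subtype.val : ↥P → G) hl))
    exact congrArg Subtype.val h3
  · rintro _ ⟨a, ha, rfl⟩
    exact ⟨g * a * g⁻¹, hTg g (mem_zpowers g) a ha, by rw [map_mul, map_mul, map_inv]⟩

/-- a `w`-element of `F` centralises `P` -/
theorem Cfg.comm_of_mem (c : Cfg K F X P v w) {a u : G} (ha : a ∈ F) (hk : ∃ k, a ^ w ^ k = 1) (hu : u ∈ P) :
    a * u = u * a := by
  obtain ⟨k, hk⟩ := hk
  obtain ⟨l, hl⟩ := c.Pv ⟨u, hu⟩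
  have hnil := c.nil
  have h3 := Cfsg.Agent.Lib.NilpotentCoprime.commute_of_pow_eq_one (N := ↥F) (a := ⟨_, ha⟩) (b := ⟨u, c.PF hu⟩)
    (m := w ^ k) (n := v ^ l) (Nat.Coprime.pow _ _ ((Nat.coprime_primes c.hw c.hv).2 c.vw.symm))
    (Subtype.ext hk) (Subtype.ext (congrArg (Subtype.val : ↥P → G) hl))
  exact congrArg Subtype.val h3

/-- if `v` and `w` are not adjacent then `X / F` is cyclic, and all commutators centralise it -/
theorem Cfg.comm_cn (c : Cfg K F X P v w) [F.Normal] (h : ¬ Adj G v w) (a b : G) : ⁅a, b⁆ ∈ cn F X := by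
  have := Fact.mk c.hv
  have := Fact.mk c.hw
  have hXn := c.Xn
  have hPn := c.Pn
  have hWn : (X.map (QuotientGroup.mk' F)).Normal := hXn.map _ (QuotientGroup.mk'_surjective F)
  by_cases hw2 : w = 2
  · -- `w = 2`
    subst hw2
    obtain ⟨T⟩ : Nonempty (Sylow 2 ↥X) := inferInstance
    set T' : Subgroup G := (T : Subgroup ↥X).map X.subtype with hT'
    have hTp : IsPGroup 2 ↥T' := by
      rw [hT']
      exact T.isPGroup'.map _
    have hTX : T' ≤ X := by
      rw [hT']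
      exact Subgroup.map_subtype_le _
    -- elements of `T'` have no fixed points on `P`
    have hfree : ∀ t ∈ T', t ≠ 1 → ∀ u ∈ P, t * u = u * t → u = 1 := by
      intro t ht ht1 u hu htu
      by_contra hu1
      exact h (adj_of_comm' c.hv c.hw c.vw (dvd_orderOf c.Pv hu hu1) (dvd_orderOf hTp ht ht1)
        (show Commute u t from htu.symm))
    have hTF : ∀ t ∈ T', t ∈ F → t = 1 := by
      intro t ht htF
      by_contra ht1
      apply c.P0
      rw [eq_bot_iff]
      intro u hu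
      obtain ⟨k, hk⟩ := hTp ⟨t, ht⟩
      exact mem_bot.2 (hfree t ht ht1 u hu (c.comm_of_mem htF ⟨k, congrArg (Subtype.val : ↥T' → G) hk⟩ hu))
    have hsq : ∀ t ∈ T', t * t = 1 := by
      intro t ht
      apply hTF _ (mul_mem ht ht)
      have h1 := c.pow t (hTX ht)
      rwa [pow_two] at h1
    have hinv : ∀ t ∈ T', t ≠ 1 → ∀ u ∈ P, t * u * t⁻¹ = u⁻¹ := by
      intro t ht ht1
      refine Cfsg.Agent.H405.RadGrp.inv_of_fpf ?_ (hsq t ht) ?_
      · rw [normalizer_eq_top]
        exact mem_top _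
      · intro u hu htu
        rw [mul_inv_eq_iff_eq_mul] at htu
        exact hfree t ht ht1 u hu htu
    have huniq : ∀ t ∈ T', ∀ s ∈ T', t ≠ 1 → s ≠ 1 → t = s := by
      intro t ht s hs ht1 hs1
      by_contra hts
      have hts1 : t * s⁻¹ ≠ 1 := fun h1 => hts (mul_inv_eq_one.1 h1)
      apply c.P0
      rw [eq_bot_iff]
      intro u hu
      refine mem_bot.2 (hfree (t * s⁻¹) (mul_mem ht (inv_mem hs)) hts1 u hu ?_)
      have h1 := hinv s hs hs1 u⁻¹ (inv_mem hu)
      have h2 := hinv t ht ht1 u hu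
      rw [inv_inv] at h1
      -- `s * u⁻¹ * s⁻¹ = u`, so `s⁻¹ * u * s = u⁻¹`
      have h3 : s⁻¹ * u * s = u⁻¹ := by
        calc s⁻¹ * u * s = s⁻¹ * (s * u⁻¹ * s⁻¹) * s := by rw [h1]
          _ = u⁻¹ := by group
      have h4 : t * u⁻¹ * t⁻¹ = u := by
        have := congrArg (fun z => z⁻¹) h2
        simp only [mul_inv_rev, inv_inv] at this
        rw [mul_assoc]
        exact this
      calc t * s⁻¹ * u = t * (s⁻¹ * u * s) * s⁻¹ := by group
        _ = t * u⁻¹ * s⁻¹ := by rw [h3]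
        _ = (t * u⁻¹ * t⁻¹) * t * s⁻¹ := by group
        _ = u * t * s⁻¹ := by rw [h4]
        _ = u * (t * s⁻¹) := by group
    -- two elements of `X ∖ F` differ by an element of `F`
    have htwo : ∀ x ∈ X, ∀ y ∈ X, x ∉ F → y ∉ F → x * y⁻¹ ∈ F := by
      intro x hx y hy hxF hyF
      obtain ⟨t, ht, f, hf, rfl⟩ := c.cover T hx
      obtain ⟨s, hs, e, he, rfl⟩ := c.cover T hy
      have ht1 : t ≠ 1 := by
        rintro rfl
        rw [one_mul] at hxF
        exact hxF hf
      have hs1 : s ≠ 1 := by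
        rintro rfl
        rw [one_mul] at hyF
        exact hyF he
      rw [huniq t ht s hs ht1 hs1]
      have h1 : s * f * (s * e)⁻¹ = s * (f * e⁻¹) * s⁻¹ := by group
      rw [h1]
      exact c.Fn.conj_mem _ (mul_mem hf (inv_mem he)) s
    have hall : ∀ g : G, g ∈ cn F X := by
      intro g
      rw [mem_cn]
      intro x hx
      have h1 : ⁅x, g⁆ = x * (g * x * g⁻¹)⁻¹ := by
        rw [commutatorElement_def]
        group
      rw [h1]
      by_cases hxF : x ∈ F
      · exact mul_mem hxF (inv_mem (c.Fn.conj_mem _ hxF g))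
      · refine htwo x hx _ (hXn.conj_mem x hx g) hxF fun h2 => hxF ?_
        have h3 := c.Fn.conj_mem _ h2 g⁻¹
        have h4 : g⁻¹ * (g * x * g⁻¹) * g⁻¹⁻¹ = x := by group
        rwa [h4] at h3
    exact hall _
  · -- `w` odd
    have hvF : v ∣ Nat.card ↥F := c.v_dvd.trans (Subgroup.card_dvd_of_le c.PF)
    have hcyc := Cfsg.Agent.H405.RadGrp.isCyclic_of_rad F c.hv c.hw hw2 c.vw hvF h (X.map (QuotientGroup.mk' F)) (by
      rintro ⟨_, x, hx, rfl⟩
      refine ⟨1, Subtype.ext ?_⟩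
      change (QuotientGroup.mk' F x) ^ w ^ 1 = 1
      rw [pow_one, ← map_pow]
      exact (QuotientGroup.eq_one_iff _).2 (c.pow x hx))
    unfold cn
    rw [mem_comap, map_commutatorElement]
    apply comm_mem_centralizer hcyc
    · rw [normalizer_eq_top]
      exact mem_top _
    · rw [normalizer_eq_top]
      exact mem_top _

/-- `w` is adjacent to the prime divisors of `|S|` if the centraliser of `X / F` covers `S` -/
theorem Cfg.adj_of_cover (c : Cfg K F X P v w) [F.Normal] [K.Normal] (S : Subgroup (G ⧸ K))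
    (hS : S ≤ (cn F X).map (QuotientGroup.mk' K)) {s : ℕ} (hs : s.Prime) (hsS : s ∣ Nat.card ↥S) (hws : w ≠ s) :
    Adj G w s := by
  have := Fact.mk c.hv
  have := Fact.mk c.hw
  have := Fact.mk hs
  have hXn := c.Xn
  obtain ⟨z, hz⟩ := exists_prime_orderOf_dvd_card' (G := ↥S) s hsS
  obtain ⟨m, hm, hmz⟩ := hS z.2
  obtain ⟨T⟩ : Nonempty (Sylow w ↥X) := inferInstance
  set T' : Subgroup G := (T : Subgroup ↥X).map X.subtype with hT'
  have hTp : IsPGroup w ↥T' := by
    rw [hT']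
    exact T.isPGroup'.map _
  have hTX : T' ≤ X := by
    rw [hT']
    exact Subgroup.map_subtype_le _
  have hfr : normalizer (T' : Set G) ⊔ X = ⊤ := Sylow.normalizer_sup_eq_top T
  have hmT : m ∈ normalizer (T' : Set G) ⊔ X := by rw [hfr]; exact mem_top _
  obtain ⟨n, hn, x, hx, rfl⟩ := Subgroup.mem_sup_of_normal_right.1 hmT
  obtain ⟨t, ht, f, hf, rfl⟩ := c.cover T hx
  -- the element `n * t`
  have hnt : n * t ∈ normalizer (T' : Set G) := mul_mem hn (le_normalizer ht)
  have hntc : n * t ∈ cn F X := by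
    have h1 : n * t = n * (t * f) * f⁻¹ := by group
    rw [h1]
    exact mul_mem hm (inv_mem (le_cn hf))
  have hntz : QuotientGroup.mk' K (n * t) = z := by
    have h1 : n * t = n * (t * f) * f⁻¹ := by group
    have h2 : QuotientGroup.mk' K f⁻¹ = 1 := (QuotientGroup.eq_one_iff _).2 (inv_mem (c.XK (c.FX hf)))
    rw [h1, map_mul, hmz, h2, mul_one]
  have hso : s ∣ orderOf (n * t) := by
    have h1 := orderOf_map_dvd (QuotientGroup.mk' K) (n * t)
    rw [hntz, Subgroup.orderOf_coe, hz] at h1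
    exact h1
  obtain ⟨y, hy, hys⟩ := exists_orderOf_prime hso hs.ne_zero
  have hyT : y ∈ normalizer (T' : Set G) := (zpowers_le.2 hnt) hy
  have hyc : y ∈ cn F X := (zpowers_le.2 hntc) hy
  -- a fixed point
  by_contra hcon
  have hfree : ∀ t ∈ T', t * y = y * t → t = 1 := by
    intro t ht hty
    by_contra ht1
    exact hcon (adj_of_comm' c.hw hs hws (dvd_orderOf hTp ht ht1) (by rw [hys]) (show Commute t y from hty))
  have hTF : ∀ t ∈ T', ⁅t, y⁆ ∈ T' ⊓ F := by
    intro t ht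
    refine ⟨?_, mem_cn.1 hyc t (hTX ht)⟩
    rw [commutatorElement_def, mul_assoc, mul_assoc]
    refine mul_mem ht ?_
    rw [← mul_assoc]
    exact (mem_normalizer_iff.1 hyT _).1 (inv_mem ht)
  have hinj : Function.Injective (fun t : ↥T' => (⟨⁅(t : G), y⁆, hTF t t.2⟩ : ↥(T' ⊓ F))) := by
    intro t s hts
    have h1 : ⁅(t : G), y⁆ = ⁅(s : G), y⁆ := congrArg Subtype.val hts
    rw [commutatorElement_def, commutatorElement_def, mul_left_inj] at h1
    have h2 : (s : G)⁻¹ * t = 1 := by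
      refine hfree _ (mul_mem (inv_mem s.2) t.2) ?_
      calc (s : G)⁻¹ * t * y = (s : G)⁻¹ * (t * y * (t : G)⁻¹) * t := by group
        _ = (s : G)⁻¹ * (s * y * (s : G)⁻¹) * t := by rw [h1]
        _ = y * ((s : G)⁻¹ * t) := by group
    exact (Subtype.ext (inv_mul_eq_one.1 h2)).symm
  have hle : T' ≤ F := by
    have h1 : Nat.card ↥T' ≤ Nat.card ↥(T' ⊓ F) := Nat.card_le_card_of_injective _ hinj
    have h2 : T' ⊓ F = T' := Subgroup.eq_of_le_of_card_ge inf_le_left h1
    rw [← h2]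
    exact inf_le_right
  apply c.ne
  intro x hx
  obtain ⟨t, ht, f, hf, rfl⟩ := c.cover T hx
  exact mul_mem (hle ht) hf

/-- the case where the centraliser of `X / F` lies in `K` -/
theorem Cfg.false_of_le (c : Cfg K F X P v w) [F.Normal] [K.Normal] (S : Subgroup (G ⧸ K)) (hS : IsComp S)
    (hle : cn F X ≤ K) {r s : ℕ} (hr2 : r ≠ 2) (hvr : NA G v r) (hrs : NA G r s)
    (hsS : r ∣ Nat.card ↥K → s ∣ Nat.card ↥S) : False := by
  have hr := hvr.2.1.1
  have hs := hrs.2.1.1
  have := Fact.mk c.hv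
  have := Fact.mk hr
  have := Fact.mk hs
  have hvF : v ∣ Nat.card ↥F := c.v_dvd.trans (Subgroup.card_dvd_of_le c.PF)
  by_cases hrK : r ∣ Nat.card ↥K
  · have hsS := hsS hrK
    -- `r ∤ |F|`
    have hrF : ¬ r ∣ Nat.card ↥F := by
      intro h
      obtain ⟨a, ha⟩ := exists_prime_orderOf_dvd_card' (G := ↥F) r h
      obtain ⟨b, hb⟩ := exists_prime_orderOf_dvd_card' (G := ↥F) v hvF
      have hnil := c.nil
      have h1 : Commute a b := Cfsg.Agent.Lib.NilpotentCoprime.commute_of_coprime_orderOf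
        (by rw [ha, hb]; exact (Nat.coprime_primes hr c.hv).2 hvr.2.2.1.symm)
      refine hvr.2.2.2 (adj_of_comm c.hv hr hvr.2.2.1 (x := (b : G)) (y := (a : G)) (by rw [Subgroup.orderOf_coe, hb])
        (by rw [Subgroup.orderOf_coe, ha]) ?_)
      exact (congrArg Subtype.val h1.eq : (a : G) * b = b * a).symm
    obtain ⟨R⟩ : Nonempty (Sylow r ↥K) := inferInstance
    set R' : Subgroup G := (R : Subgroup ↥K).map K.subtype with hR'
    have hRp : IsPGroup r ↥R' := by
      rw [hR']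
      exact R.isPGroup'.map _
    have hRF : ∀ x ∈ R', x ∈ F → x = 1 := by
      intro x hx hxF
      by_contra hx1
      exact hrF ((dvd_orderOf hRp hx hx1).trans (Subgroup.orderOf_dvd_natCard F hxF))
    have hcyc : IsCyclic ↥R' := by
      have h1 := Cfsg.Agent.H405.RadGrp.isCyclic_of_rad F c.hv hr hr2 hvr.2.2.1 hvF hvr.2.2.2
        (R'.map (QuotientGroup.mk' F)) (hRp.map _)
      have h2 : Function.Injective ((QuotientGroup.mk' F).subgroupMap R') := by
        rw [injective_iff_map_eq_one]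
        intro x hx
        apply Subtype.ext
        exact hRF x x.2 ((QuotientGroup.eq_one_iff _).1 (congrArg Subtype.val hx))
      exact isCyclic_of_injective _ h2
    have hfr : normalizer (R' : Set G) ⊔ K = ⊤ := Sylow.normalizer_sup_eq_top R
    have hN : S ≤ (normalizer (R' : Set G)).map (QuotientGroup.mk' K) := by
      intro z _
      obtain ⟨g, rfl⟩ := QuotientGroup.mk'_surjective K z
      have hg : g ∈ normalizer (R' : Set G) ⊔ K := by rw [hfr]; exact mem_top _
      obtain ⟨n, hn, k, hk, rfl⟩ := Subgroup.mem_sup_of_normal_right.1 hg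
      refine ⟨n, hn, ?_⟩
      rw [map_mul]
      have h2 : QuotientGroup.mk' K k = 1 := (QuotientGroup.eq_one_iff _).2 hk
      rw [h2, mul_one]
    have hC := le_map_of_comm (QuotientGroup.mk' K) hS hN (M := centralizer (R' : Set G))
      (fun a ha b hb => comm_mem_centralizer hcyc ha hb)
    obtain ⟨z, hz⟩ := exists_prime_orderOf_dvd_card' (G := ↥S) s hsS
    obtain ⟨a, ha, haz⟩ := hC z.2
    have hrR : r ∣ Nat.card ↥R' := by
      rw [hR', Subgroup.card_map_of_injective K.subtype_injective]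
      exact R.dvd_card_of_dvd_card hrK
    obtain ⟨b, hb⟩ := exists_prime_orderOf_dvd_card' (G := ↥R') r hrR
    refine hrs.2.2.2 (adj_of_comm' hr hs hrs.2.2.1 (x := (b : G)) (y := a) (by rw [Subgroup.orderOf_coe, hb]) ?_ ?_)
    · have h1 := orderOf_map_dvd (QuotientGroup.mk' K) a
      rw [haz, Subgroup.orderOf_coe, hz] at h1
      exact h1
    · exact mem_centralizer_iff.1 ha b b.2
  · obtain ⟨g, hg⟩ := exists_prime_orderOf_dvd_card' (G := G) r hvr.2.1.2
    have h1 := hle (c.hh hr hrK hvr.2.2.2 hg)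
    exact hrK (hg ▸ Subgroup.orderOf_dvd_natCard K h1)

end

/-- **The core argument.** -/
theorem core1 {G : Type u} [Group G] [Finite G] (K : Subgroup G) [K.Normal] (hK : Group.IsSolvable ↥K)
    (S : Subgroup (G ⧸ K)) [S.Normal] (hS : IsComp S) (hc : centralizer (S : Set (G ⧸ K)) = ⊥)
    (hcoc : ∀ r s, C3 G r s → r ∣ Nat.card ↥K * S.index → ¬ s ∣ Nat.card ↥K * S.index)
    (h : ∀ v, v.Prime → v ∣ Nat.card ↥K → (∃ s, C3 G v s) ∨
      ∃ r, r ≠ 2 ∧ NA G v r ∧ (∃ s, C3 G r s) ∧ r ∣ Nat.card ↥S) : Group.IsNilpotent ↥K := by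
  by_contra hnil
  obtain ⟨F, X, P, v, w, c⟩ := exists_cfg K hK hnil
  have hFn := c.Fn
  have hXn := c.Xn
  have hcnn : (cn F X).Normal := cn_normal
  -- prime divisors of `|S|`
  have hSdvd : ∀ r s, C3 G r s → r ∣ Nat.card ↥K → s ∣ Nat.card ↥S := by
    intro r s hrs hrK
    have h1 := hcoc r s hrs (hrK.mul_right _)
    have h2 : s ∣ Nat.card ↥K * S.index * Nat.card ↥S := by
      have h3 := Subgroup.card_mul_index K
      have h4 := Subgroup.card_mul_index S
      rw [Subgroup.index_eq_card] at h3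
      rw [mul_assoc, mul_comm S.index, h4, h3]
      exact hrs.1.2.1.2
    rcases (Nat.Prime.dvd_mul hrs.1.2.1.1).1 h2 with h3 | h3
    · exact absurd h3 h1
    · exact h3
  rcases cover K S hS hc (cn F X) with hcov | hle
  · -- `N` covers `S`
    rcases h w c.hw (c.w_dvd.trans (Subgroup.card_dvd_of_le c.XK)) with ⟨s, hs⟩ | ⟨r, -, hwr, -, hrS⟩
    · have h1 := hSdvd w s hs (c.w_dvd.trans (Subgroup.card_dvd_of_le c.XK))
      exact hs.1.2.2.2 (c.adj_of_cover S hcov hs.1.2.1.1 h1 hs.1.2.2.1)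
    · exact hwr.2.2.2 (c.adj_of_cover S hcov hwr.2.1.1 hrS hwr.2.2.1)
  · -- `N ≤ K`
    have hvK : v ∣ Nat.card ↥K := c.v_dvd.trans (Subgroup.card_dvd_of_le (c.PF.trans (c.FX.trans c.XK)))
    rcases h v c.hv hvK with ⟨s, hs, t, hvt, hst⟩ | ⟨r, hr2, hvr, ⟨s, hrs⟩, -⟩
    · by_cases hs2 : s = 2
      · have ht2 : t ≠ 2 := by
          rintro rfl
          exact hst.2.2.1 hs2
        exact c.false_of_le S hS hle ht2 hvt hst.symm (hSdvd t s ⟨hst.symm, v, hvt.symm, hs.symm⟩)
      · exact c.false_of_le S hS hle hs2 hs hst (hSdvd s t ⟨hst, v, hs.symm, hvt.symm⟩)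
    · exact c.false_of_le S hS hle hr2 hvr hrs.1 (hSdvd r s hrs)

end Cfsg.Agent.H377.NR
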